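import Cfsg.Agent.Comp.Basic
import Cfsg.Agent.Signalizer.Basic
import Cfsg.Agent.LocalB.OddSignalizer
import Cfsg.Agent.Solvable.PGroupBasic

/-!
A standard subgroup with centralizer of 2-rank one and a fused involution commutes with the odd core.
-/

set_option autoImplicit false
set_option linter.unusedSectionVars false
set_option linter.style.haveILetI false

namespace CfsgLib.StdRankOne

open Subgroup
open scoped commutatorElement

variable {X : Type*} [Group X] [Finite X]

/-- In a subgroup of 2-rank one two commuting involutions are equal. -/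
theorem eq_one_or_eq_of_commute {C : Subgroup X} (hr : Cfsg.PRankLE 2 1 C) {t : X} (htC : t ∈ C)
    (ht2 : t * t = 1) (ht1 : t ≠ 1) {a : X} (ha : a ∈ C) (ha2 : a * a = 1) (hat : a * t = t * a) :
    a = 1 ∨ a = t := by
  by_contra hne
  rw [not_or] at hne
  have e1 : a * (a * t) = t := by rw [← mul_assoc, ha2, one_mul]
  have e2 : t * (a * t) = a := by rw [hat, ← mul_assoc, ht2, one_mul]
  have e3 : a * t * a = t := by rw [hat, mul_assoc, ha2, mul_one]
  have e4 : a * t * t = a := by rw [mul_assoc, ht2, mul_one]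
  have e5 : a * t * (a * t) = 1 := by rw [mul_assoc, e2, ha2]
  have e6 : t * a = a * t := hat.symm
  let A : Subgroup C :=
    { carrier := {x | (x : X) ∈ ({1, a, t, a * t} : Set X)}
      one_mem' := by simp
      mul_mem' := by
        intro x y hx hy
        simp only [Set.mem_setOf_eq, Set.mem_insert_iff, Set.mem_singleton_iff] at hx hy ⊢
        rw [Subgroup.coe_mul]
        rcases hx with hx | hx | hx | hx <;> rcases hy with hy | hy | hy | hy <;> rw [hx, hy] <;>
          simp [ha2, ht2, e1, e2, e3, e4, e5, e6]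
      inv_mem' := by
        intro x hx
        simp only [Set.mem_setOf_eq, Set.mem_insert_iff, Set.mem_singleton_iff] at hx ⊢
        rw [Subgroup.coe_inv]
        rcases hx with hx | hx | hx | hx <;> rw [hx]
        · simp
        · exact Or.inr (Or.inl (inv_eq_of_mul_eq_one_right ha2))
        · exact Or.inr (Or.inr (Or.inl (inv_eq_of_mul_eq_one_right ht2)))
        · exact Or.inr (Or.inr (Or.inr (inv_eq_of_mul_eq_one_right e5))) }
  have hcomm : IsMulCommutative A := by
    refine ⟨⟨fun x y => Subtype.ext (Subtype.ext ?_)⟩⟩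
    obtain ⟨x, hx⟩ := x
    obtain ⟨y, hy⟩ := y
    show (x : X) * y = y * x
    have hx' : (x : X) = 1 ∨ (x : X) = a ∨ (x : X) = t ∨ (x : X) = a * t := hx
    have hy' : (y : X) = 1 ∨ (y : X) = a ∨ (y : X) = t ∨ (y : X) = a * t := hy
    rcases hx' with hx | hx | hx | hx <;> rcases hy' with hy | hy | hy | hy <;> rw [hx, hy] <;>
      simp [ha2, ht2, e1, e2, e3, e4, e6]
  have hexp : ∀ x ∈ A, x ^ 2 = 1 := by
    intro x hx
    have hx' : (x : X) = 1 ∨ (x : X) = a ∨ (x : X) = t ∨ (x : X) = a * t := hx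
    refine Subtype.ext ?_
    rw [SubmonoidClass.coe_pow, pow_two, Subgroup.coe_one]
    rcases hx' with hx | hx | hx | hx <;> rw [hx]
    · rw [one_mul]
    · exact ha2
    · exact ht2
    · exact e5
  have hle := hr A hcomm hexp
  let f : Fin 3 → A := ![1, ⟨⟨a, ha⟩, Or.inr (Or.inl rfl)⟩, ⟨⟨t, htC⟩, Or.inr (Or.inr (Or.inl rfl))⟩]
  have hf : Function.Injective f := by
    intro i j h
    have h' := congrArg (fun z : A => ((z : C) : X)) h
    fin_cases i <;> fin_cases j <;> simp [f] at h' <;> first | rfl | simp_all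
  have := Nat.card_le_card_of_injective f hf
  rw [Nat.card_fin] at this
  omega

theorem main' (P : Subgroup X) (hP : Cfsg.IsStandardSubgroup P)
    (hr : Cfsg.PRankLE 2 1 ↥(centralizer (P : Set X))) (hZ : Odd (Nat.card ↥(Subgroup.center ↥P)))
    (N : Subgroup X) (hN : N = normalizer (P : Set X)) (S : Sylow 2 ↥N)
    (T : Subgroup X) (hT : T = (S : Subgroup ↥N).map N.subtype) (t : X) (ht : orderOf t = 2)
    (htS : t ∈ T) (htP : t ∈ centralizer (P : Set X)) (g : X)
    (hgN : ∀ s ∈ T, g * s * g⁻¹ ∈ T) (hgS : g ∉ T) (hg2 : g ^ 2 ∈ T)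
    (hgt : g * t * g⁻¹ ∈ P ⊔ centralizer (P : Set X)) :
    ⁅P, Cfsg.oddCore X⁆ = ⊥ ∧
      ∀ L : Subgroup X, Cfsg.IsPComponent 2 L → P ≤ L → Cfsg.IsQuasisimple ↥L := by
  classical
  haveI : Fact (Nat.Prime 2) := ⟨Nat.prime_two⟩
  obtain ⟨hQS, hTE, -, hNC⟩ := hP
  set C := centralizer (P : Set X) with hC
  have hTN : T ≤ N := hT ▸ map_subtype_le _
  have hTp : IsPGroup 2 T := hT ▸ S.isPGroup'.map _
  have hCN : C ≤ N := hN ▸ centralizer_le_normalizer _
  have ht2 : t * t = 1 := by rw [← pow_two, ← ht, pow_orderOf_eq_one]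
  have ht1 : t ≠ 1 := fun h => by simp [h] at ht
  -- centralizer of `t` normalises `P`
  have hCt : centralizer ({t} : Set X) ≤ N := by
    intro x hx
    rw [hN, hNC]
    by_contra hxn
    have hodd := hTE.2 x hxn
    have hmem : t ∈ C ⊓ C.map (MulAut.conj x).toMonoidHom := by
      refine ⟨htP, t, htP, ?_⟩
      show x * t * x⁻¹ = t
      rw [mem_centralizer_singleton_iff.1 hx, mul_inv_cancel_right]
    have h2 := orderOf_dvd_natCard (⟨t, hmem⟩ : ↥(C ⊓ C.map (MulAut.conj x).toMonoidHom))
    rw [Subgroup.orderOf_mk, ht] at h2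
    exact Nat.not_even_iff_odd.2 hodd (even_iff_two_dvd.2 h2)
  -- the unique involution of `C` commuting with `t`
  have huniq : ∀ a ∈ C, a * a = 1 → a * t = t * a → a = 1 ∨ a = t :=
    fun a ha ha2 hat => eq_one_or_eq_of_commute hr htP ht2 ht1 ha ha2 hat
  -- `t` is central in `T`
  have htc : ∀ s ∈ T, s * t = t * s := by
    let D : Subgroup T := C.subgroupOf T
    haveI hDn : D.Normal := by
      refine ⟨fun d hd s => ?_⟩
      rw [mem_subgroupOf] at hd ⊢
      have hs : (s : X) ∈ normalizer (C : Set X) := by rw [← hNC, ← hN]; exact hTN s.2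
      exact (mem_normalizer_iff.1 hs (d : X)).1 hd
    have htD : (⟨t, htS⟩ : T) ∈ D := htP
    haveI : Nontrivial D := ⟨⟨⟨⟨t, htS⟩, htD⟩, 1, fun h => ht1 (congrArg (fun z : D => ((z : T) : X)) h)⟩⟩
    obtain ⟨z, hz⟩ := exists_prime_orderOf_dvd_card' (G := ↥(D ⊓ Subgroup.center T)) 2 (by
      haveI : Nontrivial ↥(D ⊓ Subgroup.center T) :=
        (nontrivial_iff_ne_bot _).2 (haveI := hTp.isNilpotent; CfsgLib.PGroupBasic.inf_center_ne_bot _ ((nontrivial_iff_ne_bot _).1 inferInstance))
      obtain ⟨k, hk, hkc⟩ := (IsPGroup.to_subgroup hTp (D ⊓ Subgroup.center T)).nontrivial_iff_card.1 inferInstance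
      rw [hkc]; exact dvd_pow_self 2 hk.ne')
    have hzc : ∀ s : T, ((z : T) : X) * (s : X) = (s : X) * ((z : T) : X) := fun s =>
      (congrArg Subtype.val (Subgroup.mem_center_iff.1 z.2.2 s)).symm
    have hz2 : ((z : T) : X) * ((z : T) : X) = 1 := by
      have h1 : z ^ 2 = 1 := (congrArg (z ^ ·) hz.symm).trans (pow_orderOf_eq_one z)
      rw [pow_two] at h1
      exact congrArg (fun w : ↥(D ⊓ Subgroup.center T) => ((w : T) : X)) h1
    have hz1 : ((z : T) : X) ≠ 1 := fun h => by
      have : z = 1 := Subtype.ext (Subtype.ext h)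
      rw [this, orderOf_one] at hz
      omega
    have hzt : ((z : T) : X) = t :=
      (huniq _ z.2.1 hz2 (hzc ⟨t, htS⟩)).resolve_left hz1
    intro s hs
    have := hzc ⟨s, hs⟩
    rw [hzt] at this
    exact this.symm
  set u := g * t * g⁻¹ with hu
  have huT : u ∈ T := hgN t htS
  have hu2 : u * u = 1 := by rw [hu, show g * t * g⁻¹ * (g * t * g⁻¹) = g * (t * t) * g⁻¹ by group, ht2]; group
  have hut : u * t = t * u := htc u huT
  -- `u ≠ t`
  have hune : u ≠ t := by
    intro h
    have hgc : g ∈ centralizer ({t} : Set X) := by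
      rw [mem_centralizer_singleton_iff]
      rw [hu, mul_inv_eq_iff_eq_mul] at h
      exact h
    have hgN' : g ∈ N := hCt hgc
    apply hgS
    rw [hT]
    refine ⟨⟨g, hgN'⟩, ?_, rfl⟩
    let G' := (S : Subgroup N)
    have hnorm : (⟨g, hgN'⟩ : N) ∈ normalizer (G' : Set N) := by
      refine Subgroup.mem_normalizer_fintype (fun x hx => ?_)
      obtain ⟨y, hy, hyx⟩ := hT ▸ hgN _ (hT ▸ mem_map_of_mem _ hx)
      have : (⟨g, hgN'⟩ : N) * x * (⟨g, hgN'⟩ : N)⁻¹ = y := Subtype.ext hyx.symm
      rw [SetLike.mem_coe, this]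
      exact hy
    haveI : (G'.subgroupOf (normalizer (G' : Set N))).Normal := Subgroup.normal_subgroupOf_of_le_normalizer le_rfl
    have hidx : ¬ 2 ∣ (G'.subgroupOf (normalizer (G' : Set N))).index := fun hd =>
      S.not_dvd_index (hd.trans (dvd_of_mul_right_eq _ (Subgroup.relIndex_mul_index le_normalizer)))
    set q : normalizer (G' : Set N) ⧸ G'.subgroupOf (normalizer (G' : Set N)) :=
      QuotientGroup.mk ⟨⟨g, hgN'⟩, hnorm⟩ with hq
    have hq2 : q ^ 2 = 1 := by
      rw [hq, ← QuotientGroup.mk_pow, QuotientGroup.eq_one_iff, mem_subgroupOf]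
      rw [hT] at hg2
      obtain ⟨y, hy, hyg⟩ := hg2
      have : (⟨g, hgN'⟩ : N) ^ 2 = y := Subtype.ext hyg.symm
      show (⟨g, hgN'⟩ : N) ^ 2 ∈ G'
      rw [this]
      exact hy
    have hq1 : q = 1 := by
      rcases (Nat.dvd_prime Nat.prime_two).1 (orderOf_dvd_of_pow_eq_one hq2) with h | h
      · exact orderOf_eq_one_iff.1 h
      · exact absurd (h ▸ orderOf_dvd_natCard q) (by rwa [← index_eq_card])
    rw [hq, QuotientGroup.eq_one_iff, mem_subgroupOf] at hq1
    exact hq1
  have hgut : g * u * g⁻¹ = t := by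
    rw [hu, show g * (g * t * g⁻¹) * g⁻¹ = g ^ 2 * t * (g ^ 2)⁻¹ by rw [pow_two]; group, htc _ hg2, mul_inv_cancel_right]
  -- decomposition of `u`
  have hPC : ∀ a ∈ P, ∀ c ∈ C, a * c = c * a := fun a ha c hc => mem_centralizer_iff.1 hc a ha
  obtain ⟨p, hp, c, hc, hpc⟩ : ∃ p ∈ P, ∃ c ∈ C, p * c = u := by
    have hset : u ∈ ((P ⊔ C : Subgroup X) : Set X) := hgt
    rw [Subgroup.coe_mul_of_right_le_normalizer_left P C (centralizer_le_normalizer _)] at hset
    obtain ⟨p, hp, c, hc, e⟩ := hset
    exact ⟨p, hp, c, hc, e⟩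
  have hsq : p * p * (c * c) = 1 := by
    rw [← hu2, ← hpc, show p * c * (p * c) = p * (c * p) * c by group, ← hPC p hp c hc]; group
  set m := Nat.card ↥(Subgroup.center ↥P) with hm
  have hpm : (p * p) ^ m = 1 := by
    have hmem : (⟨p * p, mul_mem hp hp⟩ : P) ∈ Subgroup.center P := by
      refine Subgroup.mem_center_iff.2 fun a => Subtype.ext ?_
      show (a : X) * (p * p) = p * p * a
      rw [show p * p = (c * c)⁻¹ from eq_inv_of_mul_eq_one_left hsq]
      exact ((Commute.mul_right (hPC a a.2 c hc) (hPC a a.2 c hc) : Commute (a : X) (c * c))).inv_right.eq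
    have := pow_card_eq_one' (x := (⟨_, hmem⟩ : Subgroup.center P))
    exact congrArg (fun z : Subgroup.center P => ((z : P) : X)) this
  obtain ⟨k, hk⟩ := hZ
  set p' := p ^ m with hp'
  set c' := c ^ m with hc'
  have hp'P : p' ∈ P := pow_mem hp _
  have hc'C : c' ∈ C := pow_mem hc _
  have hp'2 : p' * p' = 1 := by rw [hp', ← pow_add, ← two_mul, pow_mul, pow_two, hpm]
  have hum : u ^ m = u := by rw [hk, pow_succ, pow_mul, pow_two, hu2, one_pow, one_mul]
  have hpc' : p' * c' = u := by
    rw [hp', hc', ← (show Commute p c from hPC p hp c hc).mul_pow, hpc, hum]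
  have hp't : p' * t = t * p' := hPC p' hp'P t htP
  have hc'u : c' = p' * u := by rw [← hpc', ← mul_assoc, hp'2, one_mul]
  have hc'2 : c' * c' = 1 := by
    have h1 : p' * c' * (p' * c') = 1 := by rw [hpc', hu2]
    rw [show p' * c' * (p' * c') = p' * (c' * p') * c' by group, ← hPC p' hp'P c' hc'C,
      ← mul_assoc, hp'2, one_mul] at h1
    exact h1
  have hc't : c' * t = t * c' := by
    rw [hc'u, mul_assoc, hut, ← mul_assoc, hp't, mul_assoc]
  have hc'cases := huniq c' hc'C hc'2 hc't
  have hp'1 : p' ≠ 1 := by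
    intro h
    rw [h, one_mul] at hpc'
    rcases hc'cases with h' | h'
    · rw [h'] at hpc'
      have : t = 1 := by rw [← hgut, ← hpc']; group
      exact ht1 this
    · exact hune (hpc'.symm.trans h')
  -- the odd core
  set O := Cfsg.oddCore X with hO
  haveI hOn : O.Normal := by rw [hO]; infer_instance
  have hOodd : Odd (Nat.card O) := CfsgLib.LocalB.odd_card_oddCore
  have hO2 : ¬ 2 ∣ Nat.card O := fun h => Nat.not_even_iff_odd.2 hOodd (even_iff_two_dvd.2 h)
  have hPO : ∀ x ∈ P, x ∈ O → ∀ a ∈ P, a * x = x * a := by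
    intro x hxP hxO a ha
    rcases CfsgLib.Comp.quasisimple_normal hQS (H := O.subgroupOf P) inferInstance with h | h
    · exfalso
      have hp'O : p' ∈ O := (subgroupOf_eq_top.1 h) hp'P
      have h2 := orderOf_dvd_natCard (⟨p', hp'O⟩ : O)
      rw [orderOf_eq_prime (p := 2) (Subtype.ext (by rw [SubmonoidClass.coe_pow, pow_two]; exact hp'2))
        (fun e => hp'1 (congrArg Subtype.val e))] at h2
      exact hO2 h2
    · exact congrArg Subtype.val (Subgroup.mem_center_iff.1 (h (show (⟨x, hxP⟩ : P) ∈ O.subgroupOf P from hxO)) ⟨a, ha⟩)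
  set W := O ⊓ centralizer ({t} : Set X) with hW
  have hWP : ∀ w ∈ W, ∀ a ∈ P, a * w = w * a := by
    have hperf : ⁅P, P⁆ = P := Subgroup.isPerfect_iff.1 hQS.1
    have h0 : ⁅W, P⁆ = ⊥ := by
      refine CfsgLib.Comp.commutator_eq_bot_of_perfect hperf ?_
      rw [eq_bot_iff, commutator_le]
      intro y hy a ha
      have hy' : y ∈ P ⊓ O := by
        refine (commutator_le.2 fun w hw b hb => ?_ : ⁅W, P⁆ ≤ P ⊓ O) hy
        rw [commutatorElement_def]
        refine ⟨mul_mem ((mem_normalizer_iff.1 (hN ▸ hCt hw.2) b).1 hb) (P.inv_mem hb), ?_⟩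
        rw [show w * b * w⁻¹ * b⁻¹ = w * (b * w⁻¹ * b⁻¹) by group]
        exact O.mul_mem hw.1 (hOn.conj_mem _ (O.inv_mem hw.1) b)
      rw [mem_bot, commutatorElement_eq_one_iff_mul_comm]
      exact (hPO y hy'.1 hy'.2 a ha).symm
    intro w hw a ha
    exact ((mem_centralizer_iff.1 (commutator_eq_bot_iff_le_centralizer.1 h0 hw)) a ha)
  have hWu : ∀ w ∈ W, w * u = u * w := by
    intro w hw
    have h1 : p' * w = w * p' := hWP w hw p' hp'P
    have h2 : c' * w = w * c' := by
      rcases hc'cases with h | h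
      · rw [h, one_mul, mul_one]
      · rw [h]; exact (mem_centralizer_singleton_iff.1 hw.2).symm
    rw [← hpc', ← mul_assoc, ← h1, mul_assoc, ← h2, mul_assoc]
  have hWeq : O ⊓ centralizer ({u} : Set X) ≤ W := by
    have hle : W ≤ O ⊓ centralizer ({u} : Set X) := fun w hw => ⟨hw.1, mem_centralizer_singleton_iff.2 (hWu w hw)⟩
    have hmap : W.map (MulAut.conj g).toMonoidHom = O ⊓ centralizer ({u} : Set X) := by
      ext x
      constructor
      · rintro ⟨w, hw, rfl⟩
        refine ⟨hOn.conj_mem _ hw.1 g, mem_centralizer_singleton_iff.2 ?_⟩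
        show g * w * g⁻¹ * u = u * (g * w * g⁻¹)
        rw [hu, show g * w * g⁻¹ * (g * t * g⁻¹) = g * (w * t) * g⁻¹ by group, mem_centralizer_singleton_iff.1 hw.2]
        group
      · intro hx
        refine ⟨g⁻¹ * x * g, ⟨?_, mem_centralizer_singleton_iff.2 ?_⟩, ?_⟩
        · simpa using hOn.conj_mem _ hx.1 g⁻¹
        · have h := mem_centralizer_singleton_iff.1 hx.2
          rw [show t = g⁻¹ * u * g by rw [hu]; group,
            show g⁻¹ * x * g * (g⁻¹ * u * g) = g⁻¹ * (x * u) * g by group, h]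
          group
        · show g * (g⁻¹ * x * g) * g⁻¹ = x
          group
    exact (Subgroup.eq_of_le_of_card_ge hle (by
      rw [← hmap, Subgroup.card_map_of_injective (MulAut.conj g).injective])).ge
  set v := t * u with hv
  have hv1 : v ≠ 1 := fun h => hune ((eq_inv_of_mul_eq_one_right h).trans (inv_eq_of_mul_eq_one_right ht2))
  let E : Subgroup X :=
    { carrier := {1, t, u, v}
      one_mem' := by simp
      mul_mem' := by
        intro a b ha hb
        simp only [Set.mem_insert_iff, Set.mem_singleton_iff] at ha hb ⊢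
        have e1 : u * v = t := by rw [hv, ← mul_assoc, hut, mul_assoc, hu2, mul_one]
        have e2 : v * u = t := by rw [hv, mul_assoc, hu2, mul_one]
        have e3 : t * v = u := by rw [hv, ← mul_assoc, ht2, one_mul]
        have e4 : v * t = u := by rw [hv, mul_assoc, hut, ← mul_assoc, ht2, one_mul]
        have e5 : v * v = 1 := by rw [hv, ← mul_assoc, ← hv, e4, hu2]
        rcases ha with ha | ha | ha | ha <;> rcases hb with hb | hb | hb | hb <;> rw [ha, hb] <;>
          simp [ht2, hu2, e1, e2, e3, e4, e5, hv.symm, hut]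
      inv_mem' := by
        intro a ha
        simp only [Set.mem_insert_iff, Set.mem_singleton_iff] at ha ⊢
        have hvi : v⁻¹ = v := by
          rw [hv, mul_inv_rev, inv_eq_of_mul_eq_one_right hu2, inv_eq_of_mul_eq_one_right ht2, hut]
        rcases ha with ha | ha | ha | ha <;> rw [ha] <;>
          simp [inv_eq_of_mul_eq_one_right ht2, inv_eq_of_mul_eq_one_right hu2, hvi] }
  have hvt : v * t = t * v := by rw [hv, mul_assoc, hut]
  have hvu : v * u = u * v := by rw [hv, ← mul_assoc u t u, hut]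
  have hEel : Cfsg.IsElementaryAbelian 2 E := by
    refine ⟨⟨⟨fun a b => Subtype.ext ?_⟩⟩, ?_⟩
    · obtain ⟨a, ha⟩ := a
      obtain ⟨b, hb⟩ := b
      show a * b = b * a
      have ha' : a = 1 ∨ a = t ∨ a = u ∨ a = v := ha
      have hb' : b = 1 ∨ b = t ∨ b = u ∨ b = v := hb
      rcases ha' with ha | ha | ha | ha <;> rcases hb' with hb | hb | hb | hb <;> rw [ha, hb] <;>
        simp [hut, hvt, hvu, hv.symm]
    · intro a ha
      have e5 : v * v = 1 := by
        rw [hv, mul_assoc, ← mul_assoc u, hut, mul_assoc, hu2, mul_one, ht2]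
      have ha' : a = 1 ∨ a = t ∨ a = u ∨ a = v := ha
      rcases ha' with ha | ha | ha | ha <;> rw [ha] <;> simp [pow_two, ht2, hu2, e5]
  have hE4 : 2 ^ 2 ≤ Nat.card E := by
    have hset : ({1, t, u, v} : Set X).ncard = 4 := by
      have hu1 : u ≠ 1 := fun h => ht1 (by rw [← hgut, h]; group)
      have hvt' : v ≠ t := fun h => hu1 (mul_left_cancel (a := t) (by rw [← hv, h, mul_one]))
      have hvu' : v ≠ u := fun h => ht1 (mul_right_cancel (b := u) (by rw [← hv, h, one_mul]))
      rw [Set.ncard_insert_of_notMem (by simp [ht1.symm, hu1.symm, hv1.symm]),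
        Set.ncard_insert_of_notMem (by simp [hune.symm, hvt'.symm]),
        Set.ncard_insert_of_notMem (by simp [hvu'.symm]), Set.ncard_singleton]
    show 2 ^ 2 ≤ Nat.card ({1, t, u, v} : Set X)
    rw [Nat.card_coe_set_eq, hset]
    norm_num
  have hvO : O ≤ centralizer ({v} : Set X) := by
    refine CfsgLib.Signalizer.le_of_forall_centralizer (p := 2) hEel le_rfl hE4 ?_ hO2 ?_
    · rw [Subgroup.normalizer_eq_top_iff.2 hOn]; exact le_top
    · intro e he he1
      have hWv : W ≤ centralizer ({v} : Set X) := fun w hw => mem_centralizer_singleton_iff.2 (by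
        rw [hv, ← mul_assoc, mem_centralizer_singleton_iff.1 hw.2, mul_assoc, hWu w hw, ← mul_assoc])
      have he' : e = 1 ∨ e = t ∨ e = u ∨ e = v := he
      rcases he' with he | he | he | he
      · exact absurd he he1
      · rw [he]; exact hWv
      · rw [he]; exact hWeq.trans hWv
      · rw [he]; exact inf_le_right
  have hvP : ∀ a ∈ P, v * a * v⁻¹ * a⁻¹ = p' * a * p'⁻¹ * a⁻¹ := by
    intro a ha
    have htc' : t * c' = c' * t := hc't.symm
    have hv' : v = p' * (t * c') := by rw [hv, ← hpc', ← mul_assoc, ← hp't, mul_assoc]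
    have hcen : (t * c') * a = a * (t * c') := (hPC a ha _ (mul_mem htP hc'C)).symm
    rw [hv']
    calc p' * (t * c') * a * (p' * (t * c'))⁻¹ * a⁻¹ = p' * ((t * c') * a) * (t * c')⁻¹ * p'⁻¹ * a⁻¹ := by group
      _ = _ := by rw [hcen]; group
  have hCO : P ≤ centralizer (O : Set X) := by
    rcases CfsgLib.Comp.quasisimple_normal hQS (H := (centralizer (O : Set X)).subgroupOf P) inferInstance with h | h
    · exact subgroupOf_eq_top.1 h
    · exfalso
      have hvC : v ∈ centralizer (O : Set X) :=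
        mem_centralizer_iff.2 fun o ho => mem_centralizer_singleton_iff.1 (hvO ho)
      have hcomm : ∀ a : P, ⁅(⟨p', hp'P⟩ : P), a⁆ ∈ Subgroup.center P := by
        intro a
        apply h
        rw [mem_subgroupOf]
        show p' * a * p'⁻¹ * (a : X)⁻¹ ∈ centralizer (O : Set X)
        rw [← hvP a a.2, show v * a * v⁻¹ * (a : X)⁻¹ = v * (a * v⁻¹ * (a : X)⁻¹) by group]
        exact mul_mem hvC ((inferInstance : (centralizer (O : Set X)).Normal).conj_mem _ (inv_mem hvC) a)
      have hbot : ⁅Subgroup.zpowers (⟨p', hp'P⟩ : P), (⊤ : Subgroup P)⁆ = ⊥ := by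
        refine CfsgLib.Comp.commutator_eq_bot_of_perfect (Group.IsPerfect.commutator_eq_top (self := hQS.1)) ?_
        rw [eq_bot_iff, commutator_le]
        intro y hy a _
        have hy' : y ∈ Subgroup.center P := by
          refine (commutator_le.2 fun z hz b _ => ?_ : ⁅Subgroup.zpowers (⟨p', hp'P⟩ : P), (⊤ : Subgroup P)⁆ ≤ Subgroup.center P) hy
          obtain ⟨i, rfl⟩ := Subgroup.mem_zpowers_iff.1 hz
          have hi : (⟨p', hp'P⟩ : P) ^ i = 1 ∨ (⟨p', hp'P⟩ : P) ^ i = ⟨p', hp'P⟩ := by
            have h22 : (⟨p', hp'P⟩ : P) ^ (2 : ℤ) = 1 := by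
              rw [zpow_two]; exact Subtype.ext hp'2
            rcases Int.emod_two_eq_zero_or_one i with h0 | h0
            · left
              rw [← Int.emod_add_mul_ediv i 2, h0, zero_add, zpow_mul, h22, one_zpow]
            · right
              rw [← Int.emod_add_mul_ediv i 2, h0, zpow_add, zpow_one, zpow_mul, h22, one_zpow, mul_one]
          rcases hi with h0 | h0 <;> rw [h0]
          · rw [commutatorElement_one_left]; exact one_mem _
          · exact hcomm b
        rw [mem_bot, commutatorElement_eq_one_iff_mul_comm]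
        exact (Subgroup.mem_center_iff.1 hy' a).symm
      have hpZ : (⟨p', hp'P⟩ : P) ∈ Subgroup.center P := by
        refine Subgroup.mem_center_iff.2 fun a => (commutatorElement_eq_one_iff_mul_comm.1 ?_).symm
        exact (eq_bot_iff.1 hbot) (commutator_mem_commutator (Subgroup.mem_zpowers _) (mem_top a))
      have h2 := Subgroup.orderOf_dvd_natCard (Subgroup.center P) hpZ
      rw [orderOf_eq_prime (p := 2) (Subtype.ext (by rw [SubmonoidClass.coe_pow, pow_two]; exact hp'2))
        (fun e => hp'1 (congrArg Subtype.val e))] at h2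
      rw [← hm, hk] at h2
      omega
  refine ⟨commutator_eq_bot_iff_le_centralizer.2 hCO, fun L hL hPL => ?_⟩
  obtain ⟨hLs, hLc, hLmin⟩ := hL
  set π := QuotientGroup.mk' (Cfsg.pPrimeCore 2 X) with hπ
  have hkill : ∀ M : Subgroup X, M ≤ L → M.IsSubnormal → M.map π = L.map π → M = L := fun M h1 h2 h3 => hLmin M h2 h1 h3
  -- `L` centralises the odd core
  have hLO : L ≤ centralizer (O : Set X) := by
    set M := L ⊓ centralizer (O : Set X) with hM
    have hMn : (M.subgroupOf L).Normal := by
      rw [hM, inf_subgroupOf_left]; infer_instance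
    have hMs : M.IsSubnormal := by
      have := CfsgLib.Comp.isSubnormal_map_subtype hLs hMn
      rwa [map_subgroupOf_eq_of_le inf_le_left] at this
    have himg : M.map π = L.map π := by
      haveI hn' : ((M.map π).subgroupOf (L.map π)).Normal := by
        refine normal_subgroupOf_of_le_normalizer ?_
        refine le_trans ?_ (le_normalizer_map π)
        exact map_mono ((normal_subgroupOf_iff_le_normalizer inf_le_left).1 hMn)
      rcases CfsgLib.Comp.quasisimple_normal hLc.2 hn' with h | h
      · exact le_antisymm (map_mono inf_le_left) (subgroupOf_eq_top.1 h)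
      · exfalso
        have hPM : P ≤ M := le_inf hPL hCO
        have hab : ∀ a ∈ P, ∀ b ∈ P, π ⁅a, b⁆ = 1 := by
          intro a ha b hb
          have h1 := Subgroup.mem_center_iff.1 (h (show (⟨π a, mem_map_of_mem _ (hPL ha)⟩ : L.map π) ∈
            (M.map π).subgroupOf (L.map π) from mem_map_of_mem π (hPM ha))) ⟨π b, mem_map_of_mem _ (hPL hb)⟩
          rw [map_commutatorElement, commutatorElement_eq_one_iff_mul_comm]
          exact (congrArg Subtype.val h1).symm
        have hPker : P ≤ O := by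
          rw [← Subgroup.isPerfect_iff.1 hQS.1, commutator_le]
          exact fun a ha b hb => (QuotientGroup.eq_one_iff _).1 (hab a ha b hb)
        have hp'O : p' ∈ O := hPker hp'P
        have h2 := orderOf_dvd_natCard (⟨p', hp'O⟩ : O)
        rw [orderOf_eq_prime (p := 2) (Subtype.ext (by rw [SubmonoidClass.coe_pow, pow_two]; exact hp'2))
          (fun e => hp'1 (congrArg Subtype.val e))] at h2
        exact hO2 h2
    exact (hkill M inf_le_left hMs himg).symm.le.trans inf_le_right
  have hperfL : ⁅L, L⁆ = L := by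
    refine hkill _ (Subgroup.commutator_le_self L) (CfsgLib.Comp.isSubnormal_commutator hLs) ?_
    rw [map_commutator, CfsgLib.Comp.component_perfect hLc]
  haveI := hLc.2.2
  let φ : L →* L.map π := π.subgroupMap L
  have hφ : Function.Surjective φ := π.subgroupMap_surjective L
  have hker : ∀ x : L, φ x = 1 → x ∈ Subgroup.center L := by
    intro x hx
    have hxO : (x : X) ∈ O := (QuotientGroup.eq_one_iff _).1 (congrArg Subtype.val hx)
    exact Subgroup.mem_center_iff.2 fun y => Subtype.ext ((mem_centralizer_iff.1 (hLO y.2) x hxO).symm)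
  have hperf : Group.IsPerfect L := Subgroup.isPerfect_iff.2 hperfL
  have hcenter : (Subgroup.center (L.map π)).comap φ = Subgroup.center L := by
    refine le_antisymm ?_ ?_
    · intro x hx
      have hbot : ⁅(Subgroup.center (L.map π)).comap φ, (⊤ : Subgroup L)⁆ = ⊥ := by
        refine CfsgLib.Comp.commutator_eq_bot_of_perfect (Group.IsPerfect.commutator_eq_top (self := hperf)) ?_
        rw [eq_bot_iff, commutator_le]
        intro y hy a _
        have hy' : y ∈ Subgroup.center L := by
          refine (commutator_le.2 fun z hz b _ => ?_ :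
            ⁅(Subgroup.center (L.map π)).comap φ, (⊤ : Subgroup L)⁆ ≤ Subgroup.center L) hy
          refine hker _ ?_
          rw [map_commutatorElement, commutatorElement_eq_one_iff_mul_comm]
          exact (Subgroup.mem_center_iff.1 hz (φ b)).symm
        rw [mem_bot, commutatorElement_eq_one_iff_mul_comm]
        exact (Subgroup.mem_center_iff.1 hy' a).symm
      refine Subgroup.mem_center_iff.2 fun a => (commutatorElement_eq_one_iff_mul_comm.1 ?_).symm
      exact (eq_bot_iff.1 hbot) (commutator_mem_commutator hx (mem_top a))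
    · intro x hx
      refine Subgroup.mem_center_iff.2 fun y => ?_
      obtain ⟨z, rfl⟩ := hφ y
      rw [← map_mul, ← map_mul, Subgroup.mem_center_iff.1 hx z]
  refine ⟨hperf, ?_⟩
  let ψ := (QuotientGroup.mk' (Subgroup.center (L.map π))).comp φ
  have hψ : Function.Surjective ψ := (QuotientGroup.mk'_surjective _).comp hφ
  have hψk : Subgroup.center L = ψ.ker := by
    rw [← MonoidHom.comap_ker, QuotientGroup.ker_mk', hcenter]
  exact (((QuotientGroup.quotientMulEquivOfEq hψk).trans
    (QuotientGroup.quotientKerEquivOfSurjective ψ hψ))).isSimpleGroup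

theorem main (P : Subgroup X) (hP : Cfsg.IsStandardSubgroup P)
    (hr : Cfsg.PRankLE 2 1 ↥(centralizer (P : Set X))) (hZ : Odd (Nat.card ↥(Subgroup.center ↥P)))
    (S : Sylow 2 ↥(normalizer (P : Set X))) (t : X) (ht : orderOf t = 2)
    (htS : t ∈ (S : Subgroup ↥(normalizer (P : Set X))).map (normalizer (P : Set X)).subtype)
    (htP : t ∈ centralizer (P : Set X)) (g : X)
    (hgN : ∀ s ∈ (S : Subgroup ↥(normalizer (P : Set X))).map (normalizer (P : Set X)).subtype,
      g * s * g⁻¹ ∈ (S : Subgroup ↥(normalizer (P : Set X))).map (normalizer (P : Set X)).subtype)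
    (hgS : g ∉ (S : Subgroup ↥(normalizer (P : Set X))).map (normalizer (P : Set X)).subtype)
    (hg2 : g ^ 2 ∈ (S : Subgroup ↥(normalizer (P : Set X))).map (normalizer (P : Set X)).subtype)
    (hgt : g * t * g⁻¹ ∈ P ⊔ centralizer (P : Set X)) :
    ⁅P, Cfsg.oddCore X⁆ = ⊥ ∧
      ∀ L : Subgroup X, Cfsg.IsPComponent 2 L → P ≤ L → Cfsg.IsQuasisimple ↥L :=
  main' P hP hr hZ _ rfl S _ rfl t ht htS htP g hgN hgS hg2 hgt

end CfsgLib.StdRankOne
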